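import Mathlib
import Cfsg.Agent.F24.M24S

/-! The Thompson subgroup of a Sylow 2-subgroup as the even Golay cocode (task M24). -/

set_option autoImplicit false

namespace Cfsg.Agent.F24

open Subgroup Class TT TT.UQ Spor

variable {G : Type*} [Group G] {Q : Subgroup G} {z x : G} {σ : V6 → G}
  {ρ : centralizer ({z} : Set G) →* P6}

/-- `A` is the even Golay cocode with normalizer `2¹¹·M₂₄`. -/
structure Coc (z : G) (A : Subgroup G) (κ : Multiplicative (GolayPt → ZMod 2) →* G)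
    (f : normalizer (A : Set G) →* M24) : Prop where
  card : Nat.card A = 2 ^ 11
  mem : ∀ a, a ∈ A ↔ ∃ s : Finset GolayPt, Even s.card ∧ a = kap κ s
  rel : ∀ w : GolayPt → ZMod 2, ∑ p, w p = 0 → (κ (Multiplicative.ofAdd w) = 1 ↔ w ∈ golayCode)
  surj : Function.Surjective f
  ker : ∀ m, f m = 1 ↔ (m : G) ∈ A
  act : ∀ (m : normalizer (A : Set G)) (s : Finset GolayPt), Even s.card →
    (m : G) * kap κ s * (m : G)⁻¹ = kap κ (s.image (f m : Equiv.Perm GolayPt))
  four : ∀ s : Finset GolayPt, s.card = 4 → IsConj z (kap κ s)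
  two : ∀ s : Finset GolayPt, s.card = 2 → ¬ IsConj z (kap κ s)
  fusion : ∀ a ∈ A, ∀ g : G, g * a * g⁻¹ ∈ A →
    ∃ m ∈ normalizer (A : Set G), m * a * m⁻¹ = g * a * g⁻¹

namespace Coc

variable {A : Subgroup G} {κ : Multiplicative (GolayPt → ZMod 2) →* G}
  {f : normalizer (A : Set G) →* M24}

theorem map_conj (h : Coc z A κ f) (g : G) :
    ∃ κ' f', Coc z (A.map (MulAut.conj g).toMonoidHom) κ' f' := by
  have hN : ∀ m, m ∈ normalizer (A.map (MulAut.conj g).toMonoidHom : Set G) ↔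
      g⁻¹ * m * g ∈ normalizer (A : Set G) := fun m => by
    rw [← map_equiv_normalizer_eq, Grp.mem_map_conj_iff]
  let e : normalizer (A.map (MulAut.conj g).toMonoidHom : Set G) →* normalizer (A : Set G) :=
    MonoidHom.mk' (fun m => ⟨g⁻¹ * m * g, (hN m).1 m.2⟩) fun a b => Subtype.ext (by
      change g⁻¹ * (a * b) * g = g⁻¹ * a * g * (g⁻¹ * b * g)
      group)
  have he : ∀ m, (e m : G) = g⁻¹ * m * g := fun m => rfl
  have hk : ∀ s, kap ((MulAut.conj g).toMonoidHom.comp κ) s = g * kap κ s * g⁻¹ := fun _ => rfl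
  have hc : ∀ a, IsConj z (g * a * g⁻¹) ↔ IsConj z a := fun a =>
    ⟨fun h => h.trans (isConj_iff.2 ⟨g, rfl⟩).symm, fun h => h.trans (isConj_iff.2 ⟨g, rfl⟩)⟩
  refine ⟨(MulAut.conj g).toMonoidHom.comp κ, f.comp e, ?_, fun a => ?_, fun w hw => ?_, fun k => ?_,
    fun m => ?_, fun m s hs => ?_, fun s hs => ?_, fun s hs => ?_, fun a ha k hk => ?_⟩
  · rw [card_map_of_injective (MulAut.conj g).injective, h.card]
  · rw [Grp.mem_map_conj_iff, h.mem]
    exact exists_congr fun s => and_congr_right fun _ => by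
      rw [hk, eq_mul_inv_iff_mul_eq, mul_assoc, inv_mul_eq_iff_eq_mul]
  · rw [← h.rel w hw]; simp
  · obtain ⟨m, rfl⟩ := h.surj k
    exact ⟨⟨g * m * g⁻¹, (hN _).2 (by simp [mul_assoc])⟩,
      congrArg f (Subtype.ext (by rw [he]; simp [mul_assoc]))⟩
  · rw [MonoidHom.comp_apply, h.ker, he, Grp.mem_map_conj_iff]
  · rw [hk, hk, MonoidHom.comp_apply, ← h.act _ s hs, he]; group
  · rw [hk, hc]; exact h.four s hs
  · rw [hk, hc]; exact h.two s hs
  · rw [Grp.mem_map_conj_iff] at ha hk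
    obtain ⟨m, hm, e⟩ := h.fusion _ ha (g⁻¹ * k * g) (by simpa [mul_assoc] using hk)
    refine ⟨g * m * g⁻¹, (hN _).2 (by simpa [mul_assoc] using hm), ?_⟩
    calc _ = g * (m * (g⁻¹ * a * g) * m⁻¹) * g⁻¹ := by group
      _ = _ := by rw [e]; group

theorem sq (h : Coc z A κ f) : ∀ a ∈ A, a * a = 1 := fun a ha => by
  obtain ⟨s, -, rfl⟩ := (h.mem a).1 ha
  exact kap_mul_self κ s

theorem exists_duad (h : Coc z A κ f) {a : G} (ha : a ∈ A) (h1 : a ≠ 1) (hc : ¬ IsConj z a) :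
    ∃ s : Finset GolayPt, s.card = 2 ∧ a = kap κ s := by
  obtain ⟨s, hs, rfl⟩ := (h.mem a).1 ha
  obtain ⟨u, hu, h4⟩ := exists_short_word card_golayPt golayCode isGolay_golayCode.dim
    isGolay_golayCode.min (indWord s)
  rw [hammingNorm_eq_card_support₂] at h4
  rw [word_sub_eq_add, ← indWord_support₂ u, ← indWord_symmDiff] at hu
  generalize support₂ u = t at hu h4
  have hu' : symmDiff t s ∈ codeSets := mem_supports_iff.2 hu
  have h2 := card_symmDiff_add t s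
  have h3 := card_of_mem_codeSets hu'
  obtain ⟨k, hk⟩ := hs
  have e := (kap_eq_iff h.rel (s := t) (Nat.even_iff.2 (by omega)) ⟨k, hk⟩).2 hu'
  obtain h0 | h0 | h0 : t.card = 0 ∨ t.card = 2 ∨ t.card = 4 := by omega
  · rw [Finset.card_eq_zero.1 h0, kap_empty] at e
    exact absurd e.symm h1
  · exact ⟨t, h0, e.symm⟩
  · exact absurd (e ▸ h.four t h0) hc

theorem exists_conj (h : Coc z A κ f) {s t : Finset GolayPt} (hs : s.card = 2) (ht : t.card = 2) :
    ∃ m ∈ normalizer (A : Set G), m * kap κ s * m⁻¹ = kap κ t := by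
  obtain ⟨g, rfl⟩ := M24C.exists_smul_finset (s := s) (t := t) (by omega) (by omega)
  obtain ⟨m, rfl⟩ := h.surj g
  exact ⟨m, m.2, h.act m s (hs ▸ even_two)⟩

end Coc

theorem F24S.exists_Coc [Finite G] (h : F24S z Q x σ ρ) (T : Sylow 2 G) :
    ∃ κ f, Coc z (thompsonSubgroupOf 2 (T : Subgroup G)) κ f := by
  obtain ⟨κ, f, _, hM⟩ := h.exists_M24S
  obtain ⟨g, e⟩ := h.thompson_eq T
  rw [e]
  exact Coc.map_conj ⟨h.card_AA, hM.mem, hM.rel, hM.surj, hM.ker, hM.act, hM.four, hM.two,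
    fun _ ha _ hg => h.fusion ha hg⟩ g

end Cfsg.Agent.F24
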