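import Mathlib
import Cfsg.Agent.F24.Outer

/-! Moving an involution of `Q` to a standard position (task OUTER). -/

set_option autoImplicit false

namespace Cfsg.Agent.F24

open Subgroup Class TT TT.UQ

variable {G : Type*} [Group G] {Q : Subgroup G} {z x : G} {σ : V6 → G}
  {ρ : centralizer ({z} : Set G) →* P6}

theorem F24S.conjBy (h : F24S z Q x σ ρ) (c : centralizer ({z} : Set G)) :
    F24S z Q (c * x * (c : G)⁻¹) (fun v => c * σ v * (c : G)⁻¹)
      (ρ.comp (MulAut.conj c⁻¹).toMonoidHom) := by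
  have hc : (c : G) * z * (c : G)⁻¹ = z := conj_eq_of_commute (F24S.comm c)
  have h1 : ∀ (n : ℕ) (a : G), c * (a * z ^ n) * (c : G)⁻¹ = c * a * (c : G)⁻¹ * z ^ n := by
    intro n a
    rw [cjm, ← conj_pow, hc]
  have h2 : ∀ a : G, c * (a * z) * (c : G)⁻¹ = c * a * (c : G)⁻¹ * z := fun a => by rw [cjm, hc]
  have h3 : ∀ q : G, c * q * (c : G)⁻¹ ∈ Q ↔ q ∈ Q := fun q =>
    ⟨fun hq => by simpa [mul_assoc] using h.lx.norm _ (F24S.comm c⁻¹) _ hq, h.lx.norm _ (F24S.comm c) q⟩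
  have h4 : (ρ.comp (MulAut.conj c⁻¹).toMonoidHom).range = ρ.range := by
    rw [MonoidHom.range_comp, MonoidHom.range_eq_top.2 (MulAut.conj c⁻¹).surjective,
      MonoidHom.range_eq_map]
  refine ⟨h.lx, ⟨h.co.xs, fun v => (h3 _).2 (h.co.mem v), fun q hq => ?_, by simp [h.co.zero],
    fun v hv => h.co.inj v (hv.imp (by simp) fun e => ?_), fun v w => ?_, by
      rw [conj_pow, h.co.cube]; simp, fun v => by rw [← h.co.act]; group⟩, fun g v => ?_,
    fun g => ?_, h4 ▸ h.le, h4 ▸ h.ge, h4 ▸ h.card, h.fused⟩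
  · obtain ⟨v, hv⟩ := h.co.surj ((c : G)⁻¹ * q * c) ((h3 _).1 (by simpa [mul_assoc] using hq))
    exact ⟨v, hv.imp (fun e => by rw [← e]; group) fun e => by rw [← h2, ← e]; group⟩
  · exact (MulAut.conj (c : G)).injective (e.trans hc.symm)
  · rw [← cjm, h.co.mul, h1]
  · refine (h.act (c⁻¹ * g * c⁻¹⁻¹) v).imp (fun e => ?_) fun e => ?_
    · exact Eq.trans (by simp [mul_assoc]) (congrArg (fun a => c * a * (c : G)⁻¹) e)
    · exact Eq.trans (by simp [mul_assoc]) ((congrArg (fun a => c * a * (c : G)⁻¹) e).trans (h2 _))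
  · exact (h.ker (c⁻¹ * g * c⁻¹⁻¹)).trans ((h3 _).symm.trans (by simp [mul_assoc]))

variable [Finite G]

theorem F24S.exists_conj_invol (h : F24S z Q x σ ρ) {s : G} (hs : s ∈ Q) (h2 : orderOf s = 2)
    (hz : s ≠ z) {v : V6} (hv : v ∈ Iso) (e : IsConj z s ↔ v ∉ A om) :
    ∃ c ∈ centralizer ({z} : Set G), c * σ v * c⁻¹ = s := by
  obtain ⟨u, hu, e1⟩ := h.exists_of_invol hs h2 hz
  obtain ⟨q, hq, e2⟩ : ∃ q ∈ Q, q * σ u * q⁻¹ = s := by
    rcases e1 with rfl | rfl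
    exacts [⟨1, Q.one_mem, by simp⟩, h.exists_conj_mul_z hu.1]
  have h3 : IsConj (σ u) s := _root_.isConj_iff.2 ⟨q, e2⟩
  obtain ⟨g, hg, -, e3⟩ := h.exists_conj hv hu (not_iff_not.1 (e.symm.trans
    (Iff.trans ⟨(·.trans h3.symm), (·.trans h3)⟩ (h.isConj_iff hu))))
  exact ⟨q * g, mul_mem (h.Q_le hq) (mem_centralizer_singleton_iff.2 hg), by
    rw [← e2, ← e3]; group⟩

theorem exists_F24S_at (z : G) (Q : Subgroup (centralizer ({z} : Set G))) [Q.Normal]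
    (hF : IsOfLargeFischerTypeAt z Q) {s : centralizer ({z} : Set G)} (hs : s ∈ Q)
    (h2 : orderOf (s : G) = 2) (hz : (s : G) ≠ z) {v : V6} (hv : v ∈ Iso)
    (e : IsConj z (s : G) ↔ v ∉ A om) :
    ∃ x σ ρ, F24S z (Q.map (centralizer ({z} : Set G)).subtype) x σ ρ ∧ σ v = s ∧
      ∃ ψ : centralizer ({z} : Set G) ⧸ Q →* P6, Function.Injective ψ ∧
        ψ.comp (QuotientGroup.mk' Q) = ρ := by
  obtain ⟨x, σ, ρ, h⟩ := exists_F24S z Q hF
  obtain ⟨c, hc, e1⟩ := h.exists_conj_invol ⟨s, hs, rfl⟩ h2 hz hv e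
  have h' := h.conjBy ⟨c, hc⟩
  have hk := h'.ker_eq.trans (comap_map_eq_self_of_injective (subtype_injective _) Q)
  exact ⟨_, _, _, h', e1, QuotientGroup.lift Q _ hk.ge,
    (QuotientGroup.injective_lift_iff _ _ _).2 hk.symm, rfl⟩

end Cfsg.Agent.F24
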