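import Mathlib
import Cfsg.Agent.F24.Outer
import Cfsg.Agent.F24.TrioAux
import Cfsg.Agent.TT.RowCent

/-! The subgroup `2^{3+12}.(L₃(2) × A₆)` (task TRIO). -/

set_option autoImplicit false

namespace Cfsg.Agent.F24

open Subgroup Cfsg.Agent.Class TT TT.UQ Matrix
open scoped commutatorElement

variable {G : Type*} [Group G] {Q : Subgroup G} {z x : G} {σ : V6 → G}
  {ρ : centralizer ({z} : Set G) →* P6}

def cv (a : Fin 3 → ZMod 2) : GF4 := ⟨a 1, a 2⟩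

theorem hf_s1 (a b : GF4) : hf (a • s1) (b • s1) = 0 := by
  rw [hf_def]; revert a b; decide +kernel

/-- Coordinates on `V = ⟨z, σ s₁, σ (ω s₁)⟩`. -/
def Co.uV (h : Co Q z x σ) : Multiplicative (Fin 3 → ZMod 2) →* G :=
  MonoidHom.mk' (fun a => σ (cv a.toAdd • s1) * z ^ (a.toAdd 0).val) fun a b => by
    rw [mul_assoc, ← mul_assoc (z ^ _), h.zc, ← mul_assoc, ← mul_assoc, h.mul, hf_s1, mul_zero,
      tr_zero, pow_zero, mul_one, ← add_smul, mul_assoc, ← F24.zpow_add h.xs.z_sq]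
    rfl

namespace Co

variable (h : Co Q z x σ)
include h

theorem uV_apply (a : Fin 3 → ZMod 2) :
    h.uV (Multiplicative.ofAdd a) = σ (cv a • s1) * z ^ (a 0).val := rfl

theorem mem_V {v : G} : v ∈ h.uV.range ↔ ∃ c : GF4, v = σ (c • s1) ∨ v = σ (c • s1) * z := by
  constructor
  · rintro ⟨a, rfl⟩
    refine ⟨cv a.toAdd, ?_⟩
    change _ * z ^ _ = _ ∨ _ * z ^ _ = _
    rcases (by decide : ∀ t : ZMod 2, t.val = 0 ∨ t.val = 1) (a.toAdd 0) with e | e <;> simp [e]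
  · rintro ⟨c, rfl | rfl⟩
    · exact ⟨Multiplicative.ofAdd ![0, c.re, c.im], (congrArg _ (pow_zero z)).trans (mul_one _)⟩
    · exact ⟨Multiplicative.ofAdd ![1, c.re, c.im], congrArg _ (pow_one _)⟩

theorem uV_inj : Function.Injective h.uV := (injective_iff_map_eq_one _).2 fun a e => by
  change _ * z ^ _ = _ at e
  have key : ∀ a : Fin 3 → ZMod 2, cv a • s1 = 0 → (a 0).val = 0 → a = 0 := by decide +kernel
  rcases (by decide : ∀ t : ZMod 2, t.val = 0 ∨ t.val = 1) (a.toAdd 0) with e1 | e1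
  · rw [e1, pow_zero, mul_one] at e
    exact key _ (h.inj _ (Or.inl e)) e1
  · rw [e1, pow_one, ← h.zero] at e
    exact absurd e.symm (h.ne_mul _ _)

theorem uV0 : h.uV (Multiplicative.ofAdd (Pi.single 0 1)) = z := by
  rw [uV_apply, show cv (Pi.single 0 1) = 0 from rfl, zero_smul, h.zero, one_mul]
  exact pow_one z

theorem uV1 : h.uV (Multiplicative.ofAdd (Pi.single 1 1)) = σ s1 := by
  rw [uV_apply, show cv (Pi.single 1 1) = 1 from rfl, one_smul]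
  exact (congrArg _ (pow_zero z)).trans (mul_one _)

theorem uV2 : h.uV (Multiplicative.ofAdd (Pi.single 2 1)) = σ (om • s1) :=
  (congrArg _ (pow_zero z)).trans (mul_one _)

theorem z_mem_V : z ∈ h.uV.range := ⟨_, h.uV0⟩

theorem V_le : h.uV.range ≤ Q := fun v hv => by
  obtain ⟨c, rfl | rfl⟩ := h.mem_V.1 hv
  exacts [h.mem _, mul_mem (h.mem _) h.xs.z_mem]

theorem card_V : Nat.card h.uV.range = 8 := by
  rw [← Nat.card_congr (MonoidHom.ofInjective h.uV_inj).toEquiv]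
  simp

theorem V_sq {v : G} (hv : v ∈ h.uV.range) : v * v = 1 := by
  obtain ⟨a, rfl⟩ := hv
  rw [← map_mul, show a * a = 1 by revert a; decide, map_one]

theorem mem_CV {g : G} : g ∈ centralizer (h.uV.range : Set G) ↔
    Commute g z ∧ ∀ c : GF4, Commute g (σ (c • s1)) := by
  rw [mem_centralizer_iff]
  refine ⟨fun hg => ⟨(hg _ h.z_mem_V).symm, fun c => (hg _ (h.mem_V.2 ⟨c, Or.inl rfl⟩)).symm⟩,
    fun hg v hv => ?_⟩
  obtain ⟨c, rfl | rfl⟩ := h.mem_V.1 hv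
  exacts [(hg.2 c).symm, ((hg.2 c).mul_right hg.1).symm]

theorem x_mem_norm [Finite G] : x ∈ normalizer (h.uV.range : Set G) :=
  mem_normalizer_fintype fun v hv => by
    obtain ⟨c, rfl | rfl⟩ := h.mem_V.1 hv
    · exact h.mem_V.2 ⟨om * c, Or.inl (by rw [h.act, smul_smul])⟩
    · exact h.mem_V.2 ⟨om * c, Or.inr (by
        rw [← conj_mul, h.act, smul_smul, conj_eq_of_commute h.comm_x])⟩

theorem sigma_mem_CV {w : V6} (hw : hf w s1 = 0) : σ w ∈ centralizer (h.uV.range : Set G) :=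
  h.mem_CV.2 ⟨h.xs.z_comm _ (h.mem w), fun c => (h.commute_iff _ _).2 (by
    rw [hf_smul_right, hw, mul_zero, tr_zero])⟩

end Co

theorem eq_one_of_E5 {g : P6} (hg : g ∈ E5) (h : ∀ w, hf w s1 = 0 → g w = w) : g = 1 := by
  obtain ⟨b, rfl⟩ := exists_fe hg
  have key : ∀ b : Fin 5 → Bool, (∀ j : Fin 6, fe b (wv 0 j 1) = wv 0 j 1 ∧
      fe b (om • wv 0 j 1) = om • wv 0 j 1) → b = fun _ => false := by decide +kernel
  have k2 : ∀ j : Fin 6, hf (wv 0 j 1) s1 = 0 ∧ hf (om • wv 0 j 1) s1 = 0 := by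
    simp only [hf_def]; decide +kernel
  rw [key b fun j => ⟨h _ (k2 j).1, h _ (k2 j).2⟩, fe_zero]

theorem mem_span_s1 {v : V6} (h1 : psi 0 v = v ∨ psi 0 v = v + s1)
    (h2 : psi 0 (om • v) = om • v ∨ psi 0 (om • v) = om • v + s1) : ∃ c : GF4, v = c • s1 := by
  rw [(psi_semi 0).smul] at h2
  rcases h1 with h1 | h1 <;> rcases h2 with h2 | h2 <;> rw [h1] at h2
  · exact ⟨0, funext fun k => (by decide : ∀ a : GF4, om ^ 2 * a = om * a → a = 0 * 1) _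
      (congrFun h2 k)⟩
  · exact ⟨1, funext fun k => (by decide : ∀ a : GF4, om ^ 2 * a = om * a + 1 → a = 1 * 1) _
      (congrFun h2 k)⟩
  · exact ⟨om ^ 2, funext fun k =>
      (by decide : ∀ a : GF4, om ^ 2 * (a + 1) = om * a → a = om ^ 2 * 1) _ (congrFun h2 k)⟩
  · exact ⟨om, funext fun k =>
      (by decide : ∀ a : GF4, om ^ 2 * (a + 1) = om * a + 1 → a = om * 1) _ (congrFun h2 k)⟩

theorem card_E5_inf : Nat.card ↥(E5 ⊓ GU6) = 16 := by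
  have := card_eq_two_mul_of_mul_mem (A := E5) (B := E5 ⊓ GU6) inf_le_left (psi_mem_E5 0)
    (fun h => IsLin.not_semi h.2 (psi_semi 0)) fun g hg hn => ⟨mul_mem hg (psi_mem_E5 0),
      (((E5_le_GT hg).1).resolve_left fun h => hn ⟨hg, h⟩).mul (psi_semi 0)⟩
  rw [card_E5] at this
  omega

namespace F24S

variable [Finite G] (h : F24S z Q x σ ρ)
include h

local notation "𝐕" => MonoidHom.range (Co.uV (F24S.co h))
local notation "𝐂" => centralizer (SetLike.coe (MonoidHom.range (Co.uV (F24S.co h))))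
local notation "𝐋" => normalizer (SetLike.coe (MonoidHom.range (Co.uV (F24S.co h))))

omit [Finite G] in
theorem CV_le : 𝐂 ≤ centralizer {z} := fun _ hg =>
  mem_centralizer_singleton_iff.2 (h.co.mem_CV.1 hg).1

omit [Finite G] in
theorem rho_fix {g : G} (hg : g ∈ 𝐂) (c : GF4) : ρ ⟨g, h.CV_le hg⟩ (c • s1) = c • s1 :=
  h.rho_apply (Or.inl (conj_eq_of_commute ((h.co.mem_CV.1 hg).2 c)))

theorem rho_mem {g : G} (hg : g ∈ 𝐂) : ρ ⟨g, h.CV_le hg⟩ ∈ HT ⊓ St1 :=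
  ⟨h.range_eq ▸ ⟨_, rfl⟩, h.le ⟨_, rfl⟩, by simpa using h.rho_fix hg 1⟩

theorem rho_lin {g : G} (hg : g ∈ 𝐂) : IsLin (ρ ⟨g, h.CV_le hg⟩) :=
  (h.le ⟨_, rfl⟩).1.resolve_right fun hs => by
    have := h.rho_fix hg om
    rw [hs.smul, (mem_St1.1 (h.rho_mem hg).2).2] at this
    exact absurd this (by decide +kernel)

theorem exists_lift_CV {k : P6} (hk : k ∈ HT) (hl : IsLin k) (hs : k s1 = s1) :
    ∃ g, ∃ hg : g ∈ 𝐂, ρ ⟨g, h.CV_le hg⟩ = k := by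
  obtain ⟨g, rfl, -, e⟩ := h.exists_lift (h.range_eq ▸ hk) hl
  exact ⟨g, h.co.mem_CV.2 ⟨comm g, fun c => commute_of_conj_eq (by rw [e, hl.smul, hs])⟩, rfl⟩

/-- The group `R = O₂(C(V))`. -/
def RR : Subgroup G := ((E5.comap ρ).comap (inclusion h.CV_le)).map (𝐂).subtype

omit [Finite G] in
theorem mem_RR {g : G} : g ∈ h.RR ↔ ∃ hg : g ∈ 𝐂, ρ ⟨g, h.CV_le hg⟩ ∈ E5 :=
  ⟨fun ⟨a, ha, e⟩ => e ▸ ⟨a.2, ha⟩, fun ⟨hg, e⟩ => ⟨⟨g, hg⟩, e, rfl⟩⟩

omit [Finite G] in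
theorem RR_le : h.RR ≤ 𝐂 := map_subtype_le _

omit [Finite G] in
theorem mem_RR_of_Q {q : G} (hq : q ∈ Q) (hc : q ∈ 𝐂) : q ∈ h.RR :=
  h.mem_RR.2 ⟨hc, by rw [(h.ker _).2 hq]; exact one_mem _⟩

theorem exists_theta : ∃ θ : 𝐂 →* alternatingGroup (Fin 6), Function.Surjective θ ∧
    ∀ g, θ g = 1 ↔ (g : G) ∈ h.RR := by
  obtain ⟨θ, h1, h2⟩ := exists_theta_alt
  refine ⟨θ.comp ((ρ.comp (inclusion h.CV_le)).codRestrict _ fun g => h.rho_mem g.2),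
    fun a => ?_, fun g => (h2 _).trans ⟨fun e => h.mem_RR.2 ⟨g.2, e⟩, fun e =>
      (h.mem_RR.1 e).2⟩⟩
  obtain ⟨k, rfl⟩ := h1 a
  rcases k.2.2.1.1 with hl | hl
  · obtain ⟨g, hg, e⟩ := h.exists_lift_CV k.2.1 hl k.2.2.2
    exact ⟨⟨g, hg⟩, congrArg θ (Subtype.ext e)⟩
  · let p : ↥(HT ⊓ St1) := ⟨psi 0, E5_le_HT (psi_mem_E5 0), E5_le_St1 (psi_mem_E5 0)⟩
    obtain ⟨g, hg, e⟩ := h.exists_lift_CV (k * p).2.1 (hl.mul (psi_semi 0)) (k * p).2.2.2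
    refine ⟨⟨g, hg⟩, (congrArg θ (Subtype.ext e)).trans ?_⟩
    rw [map_mul, (h2 p).2 (psi_mem_E5 0), mul_one]

omit [Finite G] in
theorem sq_mem_Q {a : G} (ha : a ∈ h.RR) : a * a ∈ Q := by
  obtain ⟨ha, e⟩ := h.mem_RR.1 ha
  exact (h.ker (⟨a, h.CV_le ha⟩ * ⟨a, h.CV_le ha⟩)).1 (by rw [map_mul, E5_sq _ e])

omit [Finite G] in
theorem comm_mem_Q {a b : G} (ha : a ∈ h.RR) (hb : b ∈ h.RR) : ⁅a, b⁆ ∈ Q := by
  obtain ⟨ha, e⟩ := h.mem_RR.1 ha
  obtain ⟨hb, e'⟩ := h.mem_RR.1 hb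
  exact (h.ker ⁅(⟨a, h.CV_le ha⟩ : centralizer ({z} : Set G)), ⟨b, h.CV_le hb⟩⁆).1 (by
    rw [map_commutatorElement, commutatorElement_eq_one_iff_mul_comm,
      comm_of_sq_eq_one E5_sq e e'])

omit [Finite G] in
theorem RR_two : IsPGroup 2 h.RR := fun a => ⟨3, Subtype.ext (by
  have := h.co.xs.pow_four (h.sq_mem_Q a.2)
  rwa [← pow_two, ← pow_mul] at this)⟩

theorem le_RR {D : Subgroup G} (hD : IsPGroup 2 D) (hle : D ≤ 𝐂)
    (hn : ∀ c ∈ 𝐂, ∀ d ∈ D, c * d * c⁻¹ ∈ D) : D ≤ h.RR := fun d hd => by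
  obtain ⟨θ, h1, h2⟩ := h.exists_theta
  have := alternatingGroup.isSimpleGroup (α := Fin 6) (by simp)
  have := eq_bot_of_simple_two (X := alternatingGroup (Fin 6)) (by
    rw [nat_card_alternatingGroup]; simp [Nat.factorial]) (N := (D.subgroupOf 𝐂).map θ)
    (Normal.map ⟨fun d hd c => hn c.1 c.2 d.1 hd⟩ θ h1) ((hD.comap_subtype).map θ)
  exact (h2 ⟨d, hle hd⟩).1 (mem_bot.1 (this ▸ ⟨_, hd, rfl⟩))

omit [Finite G] in
theorem conj_mem_CV {l c : G} (hl : l ∈ 𝐋) (hc : c ∈ 𝐂) : l * c * l⁻¹ ∈ 𝐂 := fun v hv => by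
  have := hc _ ((mem_normalizer_iff''.1 hl v).1 hv)
  calc v * (l * c * l⁻¹) = l * (l⁻¹ * v * l * c) * l⁻¹ := by group
    _ = _ := by rw [this]; group

theorem conj_mem_RR {l r : G} (hl : l ∈ 𝐋) (hr : r ∈ h.RR) : l * r * l⁻¹ ∈ h.RR := by
  obtain ⟨θ, -, h2⟩ := h.exists_theta
  refine h.le_RR (D := h.RR.map (MulAut.conj l).toMonoidHom) (h.RR_two.map _) ?_ ?_ ⟨r, hr, rfl⟩
  · rintro _ ⟨r, hr, rfl⟩
    exact h.conj_mem_CV hl (h.RR_le hr)
  · rintro c hc _ ⟨r, hr, rfl⟩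
    have hc' := h.conj_mem_CV (inv_mem hl) hc
    refine ⟨_, (h2 (⟨_, hc'⟩ * ⟨r, h.RR_le hr⟩ * ⟨_, hc'⟩⁻¹)).1 ?_, ?_⟩
    · rw [map_mul, map_mul, (h2 ⟨r, h.RR_le hr⟩).2 hr, map_inv, mul_one, mul_inv_cancel]
    · change l * (l⁻¹ * c * l⁻¹⁻¹ * r * (l⁻¹ * c * l⁻¹⁻¹)⁻¹) * l⁻¹ = c * (l * r * l⁻¹) * c⁻¹
      group

theorem card_RR : Nat.card h.RR = 2 ^ 15 := by
  have hle := h.RR_le.trans h.CV_le
  have h1 := Grp.card_map_mul_card_ker_inf ρ (h.RR.subgroupOf _)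
  have h2 : (h.RR.subgroupOf _).map ρ = E5 ⊓ GU6 := by
    refine le_antisymm ?_ fun k hk => ?_
    · rintro _ ⟨g, hg, rfl⟩
      obtain ⟨hg, e⟩ := h.mem_RR.1 hg
      exact ⟨e, h.rho_lin hg⟩
    · obtain ⟨g, hg, e⟩ := h.exists_lift_CV (E5_le_HT hk.1) hk.2 (E5_le_St1 hk.1).2
      exact ⟨⟨g, _⟩, h.mem_RR.2 ⟨hg, e ▸ hk.1⟩, e⟩
  have h3 : ρ.ker ⊓ h.RR.subgroupOf _ = (Q ⊓ 𝐂).subgroupOf _ := by
    ext g
    rw [mem_inf, MonoidHom.mem_ker, h.ker, mem_subgroupOf, mem_subgroupOf]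
    exact ⟨fun e => ⟨e.1, h.RR_le e.2⟩, fun e => ⟨e.1, h.mem_RR_of_Q e.1 e.2⟩⟩
  have h4 := h.co.xs.card_mul_card_centralizer h.co.V_le h.co.z_mem_V
  rw [h2, h3, card_E5_inf, Nat.card_congr (subgroupOfEquivOfLe hle).toEquiv,
    Nat.card_congr (subgroupOfEquivOfLe (inf_le_left.trans h.Q_le)).toEquiv] at h1
  rw [h.co.card_V, h.card_Q] at h4
  omega

theorem V_le_O2C (i : Fin 3) : LX (O2C (h.co.uV (Multiplicative.ofAdd (Pi.single i 1))))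
    (h.co.uV (Multiplicative.ofAdd (Pi.single i 1))) ∧
      𝐕 ≤ O2C (h.co.uV (Multiplicative.ofAdd (Pi.single i 1))) := by
  have k1 : 𝐕 ≤ O2C (σ s1) := fun v hv => by
    have : ∀ c : GF4, σ (c • s1) ∈ O2C (σ s1) := fun c => (h.mem_O2C_iff _).2
      ⟨by rw [hf_def]; revert c; decide +kernel, by revert c; decide +kernel⟩
    obtain ⟨c, rfl | rfl⟩ := h.co.mem_V.1 hv
    exacts [this c, mul_mem (this c) h.z_mem_O2C]
  fin_cases i
  · erw [h.co.uV0]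
    rw [← h.Q_eq]
    exact ⟨h.lx, h.co.V_le⟩
  · erw [h.co.uV1]
    exact ⟨(h.lx_conj h.isConj_s1).1, k1⟩
  · erw [h.co.uV2]
    rw [← h.co.act]
    refine ⟨(h.lx_conj h.isConj_s1).1.O2C_conj x, fun v hv => ?_⟩
    rw [O2C_conj]
    exact ⟨_, k1 ((mem_normalizer_iff''.1 h.co.x_mem_norm v).1 hv), by simp [mul_assoc]⟩

theorem exists_transv {i j : Fin 3} (hij : i ≠ j) : ∃ q ∈ 𝐋, (∀ c ∈ 𝐂, ⁅q, c⁆ ∈ h.RR) ∧
    ∀ a, q * h.co.uV (Multiplicative.ofAdd a) * q⁻¹ =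
      h.co.uV (Multiplicative.ofAdd (a + Pi.single i (a j))) := by
  obtain ⟨h1, h2⟩ := h.V_le_O2C i
  let B : Subgroup (Multiplicative (Fin 3 → ZMod 2)) :=
    { carrier := {a | a.toAdd j = 0}
      one_mem' := rfl
      mul_mem' := fun {a b} ha hb => by
        change a.toAdd j + b.toAdd j = 0
        rw [ha, hb, add_zero]
      inv_mem' := fun {a} ha => neg_eq_zero.2 ha }
  have hB : ∀ a, h.co.uV a ∈ B.map h.co.uV ↔ a.toAdd j = 0 := fun a =>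
    mem_map_iff_mem h.co.uV_inj
  obtain ⟨q, hq, e⟩ := h1.toXS.exists_centralizer_eq h2 (B := B.map h.co.uV) (map_le_range _ _)
    (fun _ => (hB _).2 (by simp [hij.symm])) (by
      rintro _ ⟨a, rfl⟩ _ ⟨b, rfl⟩ ha hb
      rw [← map_mul, hB] at *
      exact (by decide : ∀ s t : ZMod 2, ¬ s = 0 → ¬ t = 0 → s + t = 0) _ _ ha hb)
  have act : ∀ a, q * h.co.uV (Multiplicative.ofAdd a) * q⁻¹ =
      h.co.uV (Multiplicative.ofAdd (a + Pi.single i (a j))) := fun a => by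
    have e1 := (e _ ⟨Multiplicative.ofAdd a, rfl⟩).trans (hB _)
    by_cases ha : a j = 0
    · rw [conj_eq_of_comm (e1.2 ha), ha, Pi.single_zero, add_zero]
    · rw [h1.toXS.conj_of_ne hq (h2 ⟨_, rfl⟩) fun e2 => ha (e1.1 e2), ← map_mul,
        (by decide : ∀ s : ZMod 2, ¬ s = 0 → s = 1) _ ha]
      rfl
  have hL : q ∈ 𝐋 := mem_normalizer_fintype (by
    rintro _ ⟨a, rfl⟩
    exact ⟨_, (act a.toAdd).symm⟩)
  refine ⟨q, hL, fun c hc => ?_, act⟩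
  have cn : ∀ c ∈ 𝐂, ∀ d ∈ O2C (h.co.uV (Multiplicative.ofAdd (Pi.single i 1))),
      c * d * c⁻¹ ∈ O2C (h.co.uV (Multiplicative.ofAdd (Pi.single i 1))) := fun c hc d hd =>
    conj_mem_O2C hd (hc _ ⟨_, rfl⟩).symm
  refine h.le_RR (D := O2C _ ⊓ 𝐂) ((O2C_isPGroup _).to_inf_left) inf_le_right
    (fun c hc d hd => ⟨cn c hc d hd.1, (𝐂).mul_mem (mul_mem hc hd.2) (inv_mem hc)⟩)
    ⟨?_, (𝐂).mul_mem (h.conj_mem_CV hL hc) (inv_mem hc)⟩
  rw [commutatorElement_def, mul_assoc, mul_assoc, ← mul_assoc c]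
  exact mul_mem hq (cn c hc _ (inv_mem hq))

theorem exists_prod : ∃ φ : 𝐋 →* SpecialLinearGroup (Fin 3) (ZMod 2) × alternatingGroup (Fin 6),
    Function.Surjective φ ∧ (∀ l, φ l = 1 ↔ (l : G) ∈ h.RR) ∧
      ∀ a, a ≠ 0 → ∃ l ∈ 𝐋, l * z * l⁻¹ = h.co.uV (Multiplicative.ofAdd a) := by
  obtain ⟨α, hα⟩ := exists_SL_hom h.co.uV h.co.uV_inj
  obtain ⟨θ, h1, h2⟩ := h.exists_theta
  have ext : ∀ (l : 𝐋) (A : SpecialLinearGroup (Fin 3) (ZMod 2)),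
      (∀ a, (l : G) * h.co.uV (Multiplicative.ofAdd a) * (l : G)⁻¹ =
        h.co.uV (Multiplicative.ofAdd (A.1 *ᵥ a))) → α l = A := fun l A e =>
    Subtype.ext (Matrix.mulVec_injective (funext fun a =>
      Multiplicative.ofAdd.injective (h.co.uV_inj ((hα l a).symm.trans (e a)))))
  have kα : ∀ l : 𝐋, α l = 1 ↔ (l : G) ∈ 𝐂 := fun l =>
    ⟨fun e => by
      rintro _ ⟨a, rfl⟩
      have := hα l a.toAdd
      rw [e] at this
      exact (comm_of_conj_eq (by simpa using this)).symm,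
    fun e => ext l 1 fun a => by simpa using conj_eq_of_comm (e _ ⟨_, rfl⟩).symm⟩
  let ι : α.ker →* 𝐂 := ((𝐋).subtype.comp α.ker.subtype).codRestrict _ fun c => (kα _).1 c.2
  let M : Subgroup 𝐋 :=
    { carrier := {q | ∀ c ∈ 𝐂, ⁅(q : G), c⁆ ∈ h.RR}
      one_mem' := fun c _ => by simp
      mul_mem' := fun {a b} ha hb c hc => by
        have := mul_mem (h.conj_mem_RR a.2 (hb c hc)) (ha c hc)
        rw [coe_mul]
        simpa [commutatorElement_def, mul_assoc] using this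
      inv_mem' := fun {a} ha c hc => by
        have := h.conj_mem_RR (inv_mem a.2) (inv_mem (ha c hc))
        rw [coe_inv]
        simpa [commutatorElement_def, mul_assoc] using this }
  have hM : M.map α = ⊤ := SL_eq_top_of_transvection_mem _ fun i j hij c => by
    rcases (by decide : ∀ s : ZMod 2, s = 0 ∨ s = 1) c with rfl | rfl
    · rw [SpecialLinearGroup.transvection_coeff_zero]; exact one_mem _
    · obtain ⟨q, hq, e1, e2⟩ := h.exists_transv hij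
      refine ⟨⟨q, hq⟩, e1, ext _ _ fun a => (e2 a).trans ?_⟩
      rw [SpecialLinearGroup.transvection_coe, add_mulVec, one_mulVec, single_mulVec]
      simp [Pi.single]
  obtain ⟨φ, h3, h4⟩ := exists_prod_hom α (θ.comp ι) (h1.comp fun c =>
    ⟨⟨⟨c, centralizer_le_normalizer _ c.2⟩, (kα _).2 c.2⟩, rfl⟩)
    (alternatingGroup.center_eq_bot (by simp)) fun y => by
      obtain ⟨m, hm, rfl⟩ := hM.ge (mem_top y)
      refine ⟨m, rfl, fun c c' e => ?_⟩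
      rw [← mul_inv_eq_one, ← map_inv, ← map_mul]
      refine (h2 _).2 ?_
      change (c'.1 : G) * (c.1 : G)⁻¹ ∈ _
      rw [e]
      exact hm _ ((kα _).1 c.2)
  refine ⟨φ, h3, fun l => (h4 l).trans ⟨fun ⟨_, e⟩ => (h2 _).1 e,
    fun e => ⟨(kα l).2 (h.RR_le e), (h2 _).2 e⟩⟩, fun a ha => ?_⟩
  obtain ⟨A, rfl⟩ := exists_SL32_col a ha
  obtain ⟨m, -, rfl⟩ := hM.ge (mem_top A)
  exact ⟨m, m.2, by rw [← hα, h.co.uV0]⟩

theorem mem_V_of_conj {d : G} (hd : ∀ l ∈ 𝐋, l * d * l⁻¹ ∈ Q) : d ∈ 𝐕 := by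
  obtain ⟨-, -, -, h1⟩ := h.exists_prod
  obtain ⟨l, hl, e⟩ := h1 (Pi.single 1 1) (by decide)
  rw [h.co.uV1] at e
  have key : ∀ m ∈ 𝐋, m * d * m⁻¹ ∈ O2C (σ s1) := fun m hm => by
    rw [← e, O2C_conj, ← h.Q_eq]
    exact ⟨_, hd _ (mul_mem (inv_mem hl) hm), by simp [mul_assoc]⟩
  have k1 := key 1 (one_mem _)
  have k2 := key x h.co.x_mem_norm
  have k3 := hd 1 (one_mem _)
  rw [one_mul, inv_one, mul_one] at k1 k3
  obtain ⟨v, rfl | rfl⟩ := h.co.surj d k3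
  · rw [h.co.act] at k2
    obtain ⟨c, rfl⟩ := mem_span_s1 (((h.mem_O2C_iff _).1 k1).2 0) (((h.mem_O2C_iff _).1 k2).2 0)
    exact h.co.mem_V.2 ⟨c, Or.inl rfl⟩
  · rw [← conj_mul, h.co.act, conj_eq_of_commute h.co.comm_x] at k2
    rw [mul_mem_cancel_right h.z_mem_O2C] at k1 k2
    obtain ⟨c, rfl⟩ := mem_span_s1 (((h.mem_O2C_iff _).1 k1).2 0) (((h.mem_O2C_iff _).1 k2).2 0)
    exact h.co.mem_V.2 ⟨c, Or.inr rfl⟩

omit [Finite G] in
theorem V_le_RR : 𝐕 ≤ h.RR := fun _ hv => h.mem_RR_of_Q (h.co.V_le hv) fun _ hw =>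
  comm_of_sq_eq_one (fun _ => h.co.V_sq) hw hv

theorem center_RR : center h.RR = (𝐕).subgroupOf h.RR := by
  ext c
  rw [mem_center_iff, mem_subgroupOf]
  refine ⟨fun hc => ?_, fun hc g => Subtype.ext (h.RR_le g.2 _ hc).symm⟩
  obtain ⟨h1, h2⟩ := h.mem_RR.1 c.2
  have h3 : ∀ q ∈ Q, q ∈ 𝐂 → q * c = c * q := fun q hq hq' =>
    congrArg Subtype.val (hc ⟨q, h.mem_RR_of_Q hq hq'⟩)
  have h4 := eq_one_of_E5 h2 fun w hw => h.rho_apply
    (Or.inl (conj_eq_of_comm (h3 _ (h.co.mem w) (h.co.sigma_mem_CV hw)).symm))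
  exact h.co.xs.mem_of_comm_centralizer h.co.V_le h.co.z_mem_V ((h.ker _).1 h4) h3

theorem commutator_RR : ⁅h.RR, h.RR⁆ = 𝐕 := by
  refine le_antisymm (commutator_le.2 fun a ha b hb => h.mem_V_of_conj fun l hl => ?_) ?_
  · rw [conjugate_commutatorElement]
    exact h.comm_mem_Q (h.conj_mem_RR hl ha) (h.conj_mem_RR hl hb)
  · rintro _ ⟨a, rfl⟩
    by_cases ha : a = 1
    · rw [ha, map_one]; exact one_mem _
    obtain ⟨-, -, -, h1⟩ := h.exists_prod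
    obtain ⟨l, hl, e⟩ := h1 a.toAdd ha
    have m : ∀ w, hf w s1 = 0 → l * σ w * l⁻¹ ∈ h.RR := fun w hw =>
      h.conj_mem_RR hl (h.mem_RR_of_Q (h.co.mem w) (h.co.sigma_mem_CV hw))
    have := commutator_mem_commutator (m (wv 0 1 1) (by rw [hf_def]; decide +kernel))
      (m (om • wv 0 2 1) (by rw [hf_def]; decide +kernel))
    rwa [← conjugate_commutatorElement, commutatorElement_def, h.co.comm,
      show tr (hf (wv 0 1 1) (om • wv 0 2 1)) = 1 by rw [hf_def]; decide +kernel, pow_one,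
      ← h.co.xs.z_comm _ (mul_mem (h.co.mem _) (h.co.mem _)) |>.symm, mul_assoc z, mul_assoc z,
      mul_inv_cancel_right, mul_inv_cancel, mul_one, e] at this

theorem special_RR : IsSpecial 2 h.RR := by
  have h1 : commutator h.RR = center h.RR := by
    rw [h.center_RR, ← h.commutator_RR, ← map_subtype_commutator, subgroupOf,
      comap_map_eq_self_of_injective (subtype_injective _)]
  refine ⟨h.RR_two, le_antisymm (Grp.PFrattini.frattini_le (p := 2) h1.le fun g => ?_)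
    (h1 ▸ Grp.PFrattini.commutator_le_frattini h.RR_two), h1⟩
  rw [h.center_RR, mem_subgroupOf, pow_two]
  refine h.mem_V_of_conj fun l hl => ?_
  rw [coe_mul, ← conj_mul]
  exact h.sq_mem_Q (h.conj_mem_RR hl g.2)

theorem RR_eq : h.RR = (pCore 2 𝐋).map (𝐋).subtype := by
  have hle := h.RR_le.trans (centralizer_le_normalizer _)
  obtain ⟨φ, h1, h2, -⟩ := h.exists_prod
  refine le_antisymm (fun r hr => ⟨⟨r, hle hr⟩, Grp.le_pCore (N := h.RR.subgroupOf 𝐋)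
    ⟨fun a ha l => h.conj_mem_RR l.2 ha⟩ h.RR_two.comap_subtype hr, rfl⟩) ?_
  rintro _ ⟨l, hl, rfl⟩
  have := alternatingGroup.isSimpleGroup (α := Fin 6) (by simp)
  have := simple_SL32
  have k1 := eq_bot_of_simple_two (by rw [S0255.card_SL32]; norm_num)
    ((pCore_normal 2 _).map ((MonoidHom.fst _ _).comp φ) (Prod.fst_surjective.comp h1))
    (Grp.map_pCore_isPGroup 2 _)
  have k2 := eq_bot_of_simple_two (by rw [nat_card_alternatingGroup]; simp [Nat.factorial])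
    ((pCore_normal 2 _).map ((MonoidHom.snd _ _).comp φ) (Prod.snd_surjective.comp h1))
    (Grp.map_pCore_isPGroup 2 _)
  exact (h2 l).1 (Prod.ext (mem_bot.1 (k1 ▸ ⟨l, hl, rfl⟩)) (mem_bot.1 (k2 ▸ ⟨l, hl, rfl⟩)))

end F24S

end Cfsg.Agent.F24
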